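import Groth.Agent.EqIntLib.StabFibre
import Groth.Agent.GrpSchLib.FibreDimGrp
import Groth.Prelude.Def_W4bk4git07Quot
import Groth.Prelude.Def_GLinSh
import Groth.Prelude.Def_AlgSt5

/-!
# The dimension of stabilisers is upper semicontinuous
-/

set_option autoImplicit false
set_option backward.isDefEq.respectTransparency false
set_option backward.isDefEq.respectTransparency.types false
set_option linter.style.haveILetI false

universe u

open CategoryTheory CategoryTheory.Limits MonoidalCategory CartesianMonoidalCategory MonObj GrpObj AlgebraicGeometry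

namespace Groth.Agent.EqIntLib.StabDim

variable {S : Scheme.{u}} {G X : Over S} [GrpObj G] (a : AlgGrp.Action G X)

/-- The stabiliser of a point is the pullback of the universal one. -/
theorem isPullback_stab {T : Over S} (f : T ⟶ X) :
    ∃ p : GLinSh.stab a f ⟶ pullback (GIT.psi a (𝟙 X)).left (lift (𝟙 X) (𝟙 X)).left,
      IsPullback p (GLinSh.stabTo a f) (stabHom a) f.left := by
  have hbot : IsPullback (X ◁ f) (snd X T) (snd X X) f := AlgSt.isPullback_whiskerLeft f
  have e : IsPullback (G ◁ f) (GIT.psi a f) (GIT.psi a (𝟙 X)) (X ◁ f) := by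
    refine IsPullback.of_bot ?_ ?_ hbot
    · rw [show GIT.psi a f ≫ snd X T = snd G T from lift_snd _ _,
        show GIT.psi a (𝟙 X) ≫ snd X X = snd G X from lift_snd _ _]
      exact AlgSt.isPullback_whiskerLeft f
    · apply CartesianMonoidalCategory.hom_ext
      · simp [GIT.psi]
      · simp [GIT.psi]
  have h1 : IsPullback (pullback.fst (GIT.psi a f).left (lift f (𝟙 T)).left ≫ (G ◁ f).left) (GLinSh.stabTo a f)
      (GIT.psi a (𝟙 X)).left ((lift f (𝟙 T)).left ≫ (X ◁ f).left) :=
    (IsPullback.of_hasPullback _ _).paste_horiz (e.map (Over.forget S))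
  have hd : (lift f (𝟙 T)).left ≫ (X ◁ f).left = f.left ≫ (lift (𝟙 X) (𝟙 X)).left := by
    rw [← Over.comp_left, ← Over.comp_left, lift_whiskerLeft, comp_lift, Category.id_comp, Category.comp_id]
  rw [hd] at h1
  exact ⟨pullback.lift _ _ (h1.w.trans (Category.assoc _ _ _).symm), IsPullback.of_right
    (by rw [pullback.lift_fst]; exact h1) (pullback.lift_snd _ _ _) (IsPullback.of_hasPullback _ _)⟩

/-- The dimension of the stabiliser is upper semicontinuous. -/
theorem isClosed_le_dim [LocallyOfFiniteType G.hom] [LocallyOfFiniteType X.hom] (n : WithBot ℕ∞) :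
    IsClosed {x : X.left | n ≤ topologicalKrullDim
      (GLinSh.stab a (Over.homMk (X.left.fromSpecResidueField x) rfl :
        Over.mk (X.left.fromSpecResidueField x ≫ X.hom) ⟶ X))} := by
  let q := pullback.snd (stabHom a) (𝟙 X.left)
  letI : GrpObj (Over.mk q) := fibreGrpObj a (𝟙 X.left)
  haveI : LocallyOfFiniteType (stabHom a) := by
    haveI : LocallyOfFiniteType (G ⊗ X).hom :=
      MorphismProperty.comp_mem _ _ _ (MorphismProperty.pullback_fst (P := @LocallyOfFiniteType) _ _ ‹_›) ‹_›
    haveI : LocallyOfFiniteType ((GIT.psi a (𝟙 X)).left ≫ (X ⊗ X).hom) := by rw [Over.w]; infer_instance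
    haveI := locallyOfFiniteType_of_comp (GIT.psi a (𝟙 X)).left (X ⊗ X).hom
    infer_instance
  haveI : LocallyOfFiniteType (Over.mk q).hom := inferInstanceAs (LocallyOfFiniteType q)
  have key : ∀ x : X.left, topologicalKrullDim (GLinSh.stab a (Over.homMk (X.left.fromSpecResidueField x) rfl :
      Over.mk (X.left.fromSpecResidueField x ≫ X.hom) ⟶ X)) = topologicalKrullDim ↥(q ⁻¹' {x}) := by
    intro x
    obtain ⟨p, hp⟩ := isPullback_stab a (Over.homMk (X.left.fromSpecResidueField x) rfl :
      Over.mk (X.left.fromSpecResidueField x ≫ X.hom) ⟶ X)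
    have h2 : IsPullback (p ≫ inv (pullback.fst (stabHom a) (𝟙 X.left))) (GLinSh.stabTo a _) q
        (X.left.fromSpecResidueField x) :=
      hp.of_iso (Iso.refl _) (asIso (pullback.fst (stabHom a) (𝟙 X.left))).symm (Iso.refl _) (Iso.refl _)
        (by simp) (by simp) (by simp [q, pullback.condition]) (by simp)
    rw [← (q.fiberHomeo x).isHomeomorph.topologicalKrullDim_eq]
    exact h2.isoPullback.hom.homeomorph.isHomeomorph.topologicalKrullDim_eq
  simp only [key]
  rw [← isOpen_compl_iff]
  convert (GrpSchLib.FibreDimGrp.upperSemicontinuous (Over.mk q)).isOpen_preimage n using 1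
  ext x
  simp only [Set.mem_compl_iff, Set.mem_setOf_eq, Set.mem_preimage, Set.mem_Iio, not_le]
  rfl

end Groth.Agent.EqIntLib.StabDim
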