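import Groth.Agent.AssocBdl.Quot
import Groth.Agent.GrpSchLib.Action

/-!
# Quotients of products with a Zariski-locally trivial torsor
-/

set_option autoImplicit false
set_option backward.isDefEq.respectTransparency false
set_option backward.isDefEq.respectTransparency.types false
set_option linter.style.haveILetI false

universe u

open CategoryTheory CategoryTheory.Limits MonoidalCategory CartesianMonoidalCategory MonObj AlgebraicGeometry
open Groth.Agent.GITQuot Groth.Agent.GrpdLib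
open Groth.Agent.AlgSpDec (ActGroupoid.gpd)

noncomputable section

namespace Groth.Agent.EqIntLib

variable {S : Scheme.{u}} {G P M : Over S} [GrpObj G] (a : AlgGrp.Action G P) (O : P.left.Opens)

/-- An open part as an object over the base. -/
abbrev part : Over S := Over.mk (O.ι ≫ P.hom)

/-- Its inclusion. -/
abbrev partι : part O ⟶ P := Over.homMk O.ι rfl

instance : Mono (partι O) :=
  haveI : Mono ((Over.forget S).map (partι O)) := inferInstanceAs (Mono O.ι)
  (Over.forget S).mono_of_mono_map inferInstance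

/-- An open trivialised by a slice has a quotient. -/
theorem exists_quotData_of_triv (σ : M ⟶ P) (m : G ⊗ M ≅ part O)
    (hm : m.hom ≫ partι O = (G ◁ σ) ≫ a.act) [Flat G.hom] [Surjective G.hom] [LocallyOfFinitePresentation G.hom] :
    Nonempty (GrpdThick.QuotData (ActGroupoid.gpd a) O) := by
  let R := ActGroupoid.gpd a
  have heqv : ∀ {T : Over S} (g : T ⟶ G) (q : T ⟶ part O),
      lift g (q ≫ partι O) ≫ a.act =
        (lift (g * (q ≫ m.inv ≫ fst G M)) (q ≫ m.inv ≫ snd G M) ≫ m.hom) ≫ partι O := by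
    intro T g q
    have hq : q ≫ partι O = lift (q ≫ m.inv ≫ fst G M) (q ≫ m.inv ≫ snd G M ≫ σ) ≫ a.act := by
      conv_lhs => rw [← m.inv_hom_id_assoc (partι O), hm]
      simp only [← Category.assoc]
      congr 1
      apply CartesianMonoidalCategory.hom_ext <;> simp
    rw [hq, GrpSchLib.act_mul, Category.assoc, hm, lift_whiskerLeft_assoc]
    simp only [Category.assoc]
  -- the universal pair over the open
  let To : Over S := Over.mk ((R.s ⁻¹ᵁ O).ι ≫ (G ⊗ P).hom)
  let ιR : To ⟶ G ⊗ P := Over.homMk (R.s ⁻¹ᵁ O).ι rfl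
  let q₀ : To ⟶ part O := Over.homMk (resS R O) (by
    show resS R O ≫ O.ι ≫ P.hom = (R.s ⁻¹ᵁ O).ι ≫ (G ⊗ P).hom
    rw [reassoc_of% (resS_ι R O)]
    exact congrArg ((R.s ⁻¹ᵁ O).ι ≫ ·) (Over.w (snd G P)))
  have hq₀ : q₀ ≫ partι O = ιR ≫ snd G P := Over.OverMorphism.ext (resS_ι R O)
  have hιR : ιR = lift (ιR ≫ fst G P) (q₀ ≫ partι O) := by
    rw [hq₀]; apply CartesianMonoidalCategory.hom_ext <;> simp
  let t₀ : To ⟶ part O :=
    lift ((ιR ≫ fst G P) * (q₀ ≫ m.inv ≫ fst G M)) (q₀ ≫ m.inv ≫ snd G M) ≫ m.hom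
  have ht₀ : ιR ≫ a.act = t₀ ≫ partι O := by
    conv_lhs => rw [hιR]
    exact heqv _ _
  have hinv : IsInv R O := isInv_of_mem fun r hr => by
    have h : R.t r = O.ι (t₀.left ⟨r, hr⟩) :=
      congrArg (fun f : To.left ⟶ P.left => f ⟨r, hr⟩) (congrArg CommaMorphism.left ht₀)
    rw [h]
    exact (t₀.left ⟨r, hr⟩).2
  have hresT : resT R O hinv = t₀.left :=
    (cancel_mono O.ι).1 ((resT_ι R O hinv).trans (congrArg CommaMorphism.left ht₀))
  let π : part O ⟶ M := m.inv ≫ snd G M
  haveI : IsIso m.inv.left := inferInstanceAs (IsIso ((Over.forget S).map m.inv))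
  haveI : Flat (snd G M).left := MorphismProperty.pullback_snd (P := @Flat) G.hom M.hom ‹_›
  haveI : Surjective (snd G M).left := MorphismProperty.pullback_snd (P := @Surjective) G.hom M.hom ‹_›
  haveI : LocallyOfFinitePresentation (snd G M).left :=
    MorphismProperty.pullback_snd (P := @LocallyOfFinitePresentation) G.hom M.hom ‹_›
  haveI : Flat π.left := inferInstanceAs (Flat (m.inv.left ≫ (snd G M).left))
  haveI : Surjective π.left := inferInstanceAs (Surjective (m.inv.left ≫ (snd G M).left))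
  haveI : LocallyOfFinitePresentation π.left :=
    inferInstanceAs (LocallyOfFinitePresentation (m.inv.left ≫ (snd G M).left))
  have hw : t₀ ≫ π = q₀ ≫ π := by simp [t₀, π]
  have hw' : resT R O hinv ≫ π.left = resS R O ≫ π.left := by
    rw [hresT]; exact congrArg CommaMorphism.left hw
  have hex : ∀ c : PullbackCone π.left π.left, ∃ l : c.pt ⟶ (R.s ⁻¹ᵁ O).toScheme,
      l ≫ resT R O hinv = c.fst ∧ l ≫ resS R O = c.snd := by
    intro c
    let T : Over S := Over.mk (c.fst ≫ (part O).hom)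
    let p : T ⟶ part O := Over.homMk c.fst rfl
    let q : T ⟶ part O := Over.homMk c.snd (by
      show c.snd ≫ (part O).hom = c.fst ≫ (part O).hom
      rw [← Over.w π, reassoc_of% c.condition])
    have hpq : p ≫ π = q ≫ π := Over.OverMorphism.ext c.condition
    let g := (p ≫ m.inv ≫ fst G M) * (q ≫ m.inv ≫ fst G M)⁻¹
    let r := lift g (q ≫ partι O)
    have hr : r ≫ a.act = p ≫ partι O := by
      refine (heqv g q).trans (congrArg (· ≫ partι O) ?_)
      rw [← Iso.eq_comp_inv]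
      simp only [g, inv_mul_cancel_right]
      apply CartesianMonoidalCategory.hom_ext
      · simp
      · simpa [π] using hpq.symm
    have hs : r ≫ snd G P = q ≫ partι O := lift_snd _ _
    have hs' : r.left ≫ R.s = c.snd ≫ O.ι := congrArg CommaMorphism.left hs
    let l : c.pt ⟶ (R.s ⁻¹ᵁ O).toScheme := IsOpenImmersion.lift (R.s ⁻¹ᵁ O).ι r.left (by
      rintro _ ⟨z, rfl⟩
      rw [Scheme.Opens.range_ι]
      show R.s (r.left z) ∈ (O : Set P.left)
      rw [show R.s (r.left z) = O.ι (c.snd z) from congrArg (fun f : c.pt ⟶ P.left => f z) hs']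
      exact (c.snd z).2)
    refine ⟨l, ?_, ?_⟩
    · rw [← cancel_mono O.ι, Category.assoc, resT_ι, IsOpenImmersion.lift_fac_assoc]
      exact congrArg CommaMorphism.left hr
    · rw [← cancel_mono O.ι, Category.assoc, resS_ι, IsOpenImmersion.lift_fac_assoc]
      exact hs'
  have huniq : ∀ {T : Scheme.{u}} (l₁ l₂ : T ⟶ (R.s ⁻¹ᵁ O).toScheme),
      l₁ ≫ resT R O hinv = l₂ ≫ resT R O hinv → l₁ ≫ resS R O = l₂ ≫ resS R O → l₁ = l₂ := by
    intro T l₁ l₂ h1 h2
    rw [hresT] at h1
    have e : l₂ ≫ To.hom = l₁ ≫ To.hom := by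
      rw [← Over.w q₀]
      show l₂ ≫ resS R O ≫ _ = l₁ ≫ resS R O ≫ _
      rw [reassoc_of% h2]
    let T' : Over S := Over.mk (l₁ ≫ To.hom)
    let u₁ : T' ⟶ To := Over.homMk l₁ rfl
    let u₂ : T' ⟶ To := Over.homMk l₂ e
    have e1 : u₁ ≫ t₀ = u₂ ≫ t₀ := Over.OverMorphism.ext h1
    have e2 : u₁ ≫ q₀ = u₂ ≫ q₀ := Over.OverMorphism.ext h2
    have e3 := congrArg (· ≫ m.inv ≫ fst G M) e1
    simp only [t₀, Category.assoc, m.hom_inv_id_assoc, lift_fst] at e3
    rw [MonObj.comp_mul, MonObj.comp_mul, reassoc_of% e2] at e3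
    have e4 : u₁ ≫ ιR = u₂ ≫ ιR := by
      rw [hιR]
      apply CartesianMonoidalCategory.hom_ext
      · simp only [Category.assoc, lift_fst]
        exact mul_right_cancel e3
      · simp only [Category.assoc, lift_snd]
        rw [reassoc_of% e2]
    exact (cancel_mono (R.s ⁻¹ᵁ O).ι).1 (congrArg CommaMorphism.left e4)
  choose l hl₁ hl₂ using hex
  exact ⟨⟨hinv, M.left, π.left, inferInstance, inferInstance, inferInstance,
    ⟨⟨hw'⟩, ⟨PullbackCone.IsLimit.mk _ l hl₁ hl₂ fun c n h₁ h₂ =>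
      huniq _ _ (h₁.trans (hl₁ c).symm) (h₂.trans (hl₂ c).symm)⟩⟩⟩⟩

variable {X U B : Over S} (b : AlgGrp.Action G U) (c : AlgGrp.Action G X) (π : U ⟶ B)
  (hcart : IsPullback b.act (snd G U) π π)

include hcart in
theorem exists_quotData_of_section (W : B.left.Opens) (s : W.toScheme ⟶ U.left) (hs : s ≫ π.left = W.ι)
    [Flat G.hom] [Surjective G.hom] [LocallyOfFinitePresentation G.hom] :
    Nonempty (GrpdThick.QuotData (ActGroupoid.gpd (b.prod c)) (AssocBdl.WXF (F := X) π W)) := by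
  let O := AssocBdl.WXF (F := X) π W
  let s' : part W ⟶ U := Over.homMk s (by
    show s ≫ U.hom = W.ι ≫ B.hom
    rw [← Over.w π, reassoc_of% hs])
  have hs' : s' ≫ π = partι W := Over.OverMorphism.ext hs
  have cartS : IsPullback ((G ◁ s') ≫ b.act) (snd G (part W)) π (partι W) := by
    rw [← hs']
    exact (isPullback_tensorLeft s').paste_horiz hcart
  have hO : ∀ x : O.toScheme, π.left ((fst U X).left (O.ι x)) ∈ W := fun x => x.2
  let cA : part O ⟶ part W := Over.homMk
    (IsOpenImmersion.lift W.ι (O.ι ≫ (fst U X).left ≫ π.left) (by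
      rintro _ ⟨x, rfl⟩
      erw [Scheme.Opens.range_ι]
      exact hO x)) (by
    show _ ≫ W.ι ≫ B.hom = O.ι ≫ (U ⊗ X).hom
    rw [IsOpenImmersion.lift_fac_assoc, Category.assoc, Category.assoc, Over.w π, Over.w (fst U X)])
  have hcA : cA ≫ partι W = (partι O ≫ fst U X) ≫ π := Over.OverMorphism.ext (by
    show _ ≫ W.ι = (O.ι ≫ (fst U X).left) ≫ π.left
    rw [Category.assoc]; exact IsOpenImmersion.lift_fac _ _ _)
  let h := cartS.lift (partι O ≫ fst U X) cA hcA.symm
  have hh₁ : h ≫ (G ◁ s') ≫ b.act = partι O ≫ fst U X := cartS.lift_fst _ _ _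
  have hh₂ : h ≫ snd G (part W) = cA := cartS.lift_snd _ _ _
  let σ : part W ⊗ X ⟶ U ⊗ X := s' ▷ X
  let n := (G ◁ σ) ≫ (b.prod c).act
  let k : part O ⟶ G ⊗ (part W ⊗ X) :=
    lift (h ≫ fst G (part W)) (lift cA (lift (h ≫ fst G (part W))⁻¹ (partι O ≫ snd U X) ≫ c.act))
  have hn₁ : n ≫ fst U X = (G ◁ fst (part W) X) ≫ (G ◁ s') ≫ b.act := by
    simp [n, σ, AlgGrp.Action.prod]
    rw [← whiskerLeft_comp_assoc, ← whiskerLeft_comp_assoc, whiskerRight_fst]
  have hn₂ : n ≫ snd U X = lift (fst G (part W ⊗ X)) (snd G (part W ⊗ X) ≫ snd (part W) X) ≫ c.act := by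
    simp [n, σ, AlgGrp.Action.prod]
    rw [← whiskerLeft_comp_assoc, whiskerRight_snd]
    congr 1
  have hnπ : ∀ z, (partι W).left z ∈ W := fun z => z.2
  have hrange : Set.range n.left ⊆ Set.range O.ι := by
    rintro _ ⟨z, rfl⟩
    erw [Scheme.Opens.range_ι]
    show π.left ((fst U X).left (n.left z)) ∈ W
    have := congrArg (fun f : G ⊗ (part W ⊗ X) ⟶ B => f.left z)
      (show (n ≫ fst U X) ≫ π = ((G ◁ fst (part W) X) ≫ snd G (part W)) ≫ partι W by
        rw [hn₁]; simp only [Category.assoc]; rw [← cartS.w]; simp only [Category.assoc])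
    simp only [Over.comp_left, Scheme.Hom.comp_apply] at this
    rw [this]
    exact hnπ _
  let mh : G ⊗ (part W ⊗ X) ⟶ part O := Over.homMk (IsOpenImmersion.lift O.ι n.left hrange) (by
    show _ ≫ O.ι ≫ (U ⊗ X).hom = _
    rw [IsOpenImmersion.lift_fac_assoc]; exact Over.w n)
  have hmh : mh ≫ partι O = n := Over.OverMorphism.ext (IsOpenImmersion.lift_fac _ _ _)
  have hkn : k ≫ n = partι O := by
    apply CartesianMonoidalCategory.hom_ext
    · rw [Category.assoc, hn₁, ← hh₁, ← Category.assoc]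
      congr 1
      apply CartesianMonoidalCategory.hom_ext <;> simp [k, hh₂]
    · rw [Category.assoc, hn₂]
      simp only [k, comp_lift_assoc, lift_fst, lift_snd, lift_snd_assoc]
      rw [GrpSchLib.act_mul, mul_inv_cancel, GrpSchLib.act_one]
  refine exists_quotData_of_triv (b.prod c) O σ ⟨mh, k, ?_, ?_⟩ hmh
  · have e₀ : mh ≫ cA = (G ◁ fst (part W) X) ≫ snd G (part W) := by
      rw [← cancel_mono (partι W), Category.assoc, hcA, ← Category.assoc, ← Category.assoc, hmh, hn₁]
      simp only [Category.assoc]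
      rw [← cartS.w]
      simp only [Category.assoc]
    have e₁ : mh ≫ h = G ◁ fst (part W) X := by
      refine cartS.hom_ext ?_ ?_
      · rw [Category.assoc, hh₁, ← Category.assoc, hmh, hn₁]
      · rw [Category.assoc, hh₂, e₀]
    have e₂ : mh ≫ h ≫ fst G (part W) = fst G (part W ⊗ X) := by rw [reassoc_of% e₁]; simp
    simp only [k, comp_lift, GrpObj.comp_inv, e₂, e₀]
    apply CartesianMonoidalCategory.hom_ext
    · simp
    · apply CartesianMonoidalCategory.hom_ext
      · simp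
      · simp only [lift_snd, Category.id_comp, ← Category.assoc, comp_lift, GrpObj.comp_inv, e₂, hmh, hn₂]
        rw [GrpSchLib.act_mul, inv_mul_cancel, GrpSchLib.act_one]
  · rw [← cancel_mono (partι O), Category.assoc, hmh, hkn, Category.id_comp]

include hcart in
/-- The quotient of the product with a Zariski-locally trivial torsor. -/
theorem exists_quot_of_zar [Flat G.hom] [Surjective G.hom] [LocallyOfFinitePresentation G.hom]
    (hzar : ∀ y : B.left, ∃ (W : B.left.Opens) (s : W.toScheme ⟶ U.left), y ∈ W ∧ s ≫ π.left = W.ι) :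
    ∃ (Q : Over S) (q : U ⊗ X ⟶ Q), IsPullback (b.prod c).act (snd G (U ⊗ X)) q q ∧
      Flat q.left ∧ Surjective q.left ∧ LocallyOfFinitePresentation q.left := by
  haveI : Mono (ActGroupoid.gpd (b.prod c)).j := AssocBdl.mono_j b c π hcart
  obtain ⟨Q₀, q₀, hs, hf, hl, hpb⟩ := GrpdThick.exists_quotient_of_cover (ActGroupoid.gpd (b.prod c)) fun z => by
    obtain ⟨W, s, hy, hsW⟩ := hzar (π.left ((fst U X).left z))
    exact ⟨AssocBdl.WXF π W, hy, exists_quotData_of_section b c π hcart W s hsW⟩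
  have hw : ∀ {T : Scheme.{u}} (x y : T ⟶ (U ⊗ X).left), x ≫ q₀ = y ≫ q₀ → x ≫ (U ⊗ X).hom = y ≫ (U ⊗ X).hom := by
    intro T x y h
    obtain ⟨r, hr1, hr2⟩ := hpb.exists_lift x y h
    rw [← hr1, ← hr2, Category.assoc, Category.assoc]
    exact congrArg (r ≫ ·) ((Over.w (b.prod c).act).trans (Over.w (snd G (U ⊗ X))).symm)
  haveI := hs
  haveI := hf
  haveI := hl
  let Q : Over S := Over.mk (EffectiveEpi.desc q₀ (U ⊗ X).hom hw)
  let q : U ⊗ X ⟶ Q := Over.homMk q₀ (EffectiveEpi.fac q₀ _ hw)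
  exact ⟨Q, q, IsPullback.of_map (Over.forget S) (f := (b.prod c).act) (g := snd G (U ⊗ X)) (h := q) (i := q)
    (Over.OverMorphism.ext hpb.w) hpb, hf, hs, hl⟩

end Groth.Agent.EqIntLib
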